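import Groth.Agent.Lib.FibreDimAt6.Scheme
import Groth.Agent.Lib.Chev28.TFAE

/-! # The fibre dimension of a map of affine schemes through the fibre ring -/

set_option autoImplicit false
universe u

open AlgebraicGeometry CategoryTheory

namespace GrothLib.FibreDimRing

variable {R S : Type u} [CommRing R] [CommRing S] [Algebra R S]

theorem fibreDimAt_eq_localDim (q : PrimeSpectrum S) (p : Ideal R) [p.IsPrime] (hp : q.asIdeal.under R = p)
    (Q : PrimeSpectrum (p.Fiber S))
    (hQ : Q.asIdeal.comap (Algebra.TensorProduct.includeRight.toRingHom) = q.asIdeal) :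
    FlatMor.fibreDimAt (Spec.map (CommRingCat.ofHom (algebraMap R S))) q =
      FlatMor.localDim (PrimeSpectrum (p.Fiber S)) Q := by
  subst hp
  let f := Spec.map (CommRingCat.ofHom (algebraMap R S))
  let p₀ : PrimeSpectrum R := PrimeSpectrum.comap (algebraMap R S) q
  let e₂ := PrimeSpectrum.preimageHomeomorphFiber R S p₀
  have hs : e₂ ⟨q, rfl⟩ = Q := by
    apply e₂.symm.injective
    rw [Homeomorph.symm_apply_apply]
    exact Subtype.ext (PrimeSpectrum.ext hQ.symm)
  let e₁ : ↥(f.fiber (f q)) ≃ₜ (PrimeSpectrum.comap (algebraMap R S) ⁻¹' {p₀} : Set (PrimeSpectrum S)) :=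
    f.fiberHomeo (f q)
  have h1 : e₁ (f.asFiber q) = ⟨q, rfl⟩ := Subtype.ext (f.fiberι_asFiber q)
  rw [← hs, ← h1]
  exact ((GrothLib.Chev28.localDim_homeomorph e₂ _).trans (GrothLib.Chev28.localDim_homeomorph e₁ _)).symm

theorem exists_fibre_point (q : PrimeSpectrum S) :
    ∃ Q : PrimeSpectrum ((q.asIdeal.under R).Fiber S),
      Q.asIdeal.comap (Algebra.TensorProduct.includeRight.toRingHom) = q.asIdeal := by
  let p₀ : PrimeSpectrum R := PrimeSpectrum.comap (algebraMap R S) q
  let e := PrimeSpectrum.preimageHomeomorphFiber R S p₀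
  refine ⟨e ⟨q, rfl⟩, ?_⟩
  have : (e.symm (e ⟨q, rfl⟩)).1 = q := congrArg Subtype.val (e.symm_apply_apply _)
  exact congrArg PrimeSpectrum.asIdeal this

theorem fibreDimAt_le_iff (q : PrimeSpectrum S) (n : WithBot ℕ∞) :
    (∀ Q : PrimeSpectrum ((q.asIdeal.under R).Fiber S),
      Q.asIdeal.comap (Algebra.TensorProduct.includeRight.toRingHom) = q.asIdeal →
        FlatMor.localDim (PrimeSpectrum ((q.asIdeal.under R).Fiber S)) Q ≤ n) ↔
      FlatMor.fibreDimAt (Spec.map (CommRingCat.ofHom (algebraMap R S))) q ≤ n := by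
  constructor
  · intro h
    obtain ⟨Q, hQ⟩ := exists_fibre_point (R := R) q
    exact (fibreDimAt_eq_localDim q _ rfl Q hQ).le.trans (h Q hQ)
  · exact fun h Q hQ => (fibreDimAt_eq_localDim q _ rfl Q hQ).ge.trans h

end GrothLib.FibreDimRing
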