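import Groth.Agent.Lib.FibreDimRing.QFMap
import Groth.Agent.Lib.NoetherInt.Refined
import Mathlib.RingTheory.AlgebraicIndependent.TranscendenceBasis

/-! # Quasi-finite maps to affine space with prescribed preimage of a prime -/

set_option autoImplicit false
universe u

open TensorProduct MvPolynomial GrothLib.FibreDimAt6

set_option linter.style.haveILetI false

noncomputable section

namespace GrothLib.FibreDimRing

/-- The kernel of reduction to the residue field followed by scaling and killing variables. -/
theorem ker_killVars {R : Type u} [CommRing R] (p : Ideal R) [p.IsPrime] {n r : ℕ} (hrn : r ≤ n)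
    (w : Fin r → p.ResidueField) (hw : ∀ i, w i ≠ 0) :
    RingHom.ker (aeval (R := R) fun i : Fin n =>
        if h : (i : ℕ) < r then w ⟨i, h⟩ • (X ⟨i, h⟩ : MvPolynomial (Fin r) p.ResidueField) else 0) =
      p.map (algebraMap R (MvPolynomial (Fin n) R)) ⊔
        Ideal.span (Set.range fun i : {i : Fin n // r ≤ (i : ℕ)} =>
          (X (i : Fin n) : MvPolynomial (Fin n) R)) := by
  set π := aeval (R := R) fun i : Fin n =>
    if h : (i : ℕ) < r then w ⟨i, h⟩ • (X ⟨i, h⟩ : MvPolynomial (Fin r) p.ResidueField) else 0 with hπ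
  set Y := Ideal.span (Set.range fun i : {i : Fin n // r ≤ (i : ℕ)} =>
    (X (i : Fin n) : MvPolynomial (Fin n) R)) with hY
  refine le_antisymm (fun F hF => ?_) (sup_le (Ideal.map_le_iff_le_comap.2 fun c hc => ?_)
    (Ideal.span_le.2 ?_))
  · let kill : MvPolynomial (Fin n) R →ₐ[R] MvPolynomial (Fin r) R :=
      aeval fun i : Fin n => if h : (i : ℕ) < r then X ⟨i, h⟩ else 0
    let ρ : MvPolynomial (Fin r) R →ₐ[R] MvPolynomial (Fin n) R := rename (Fin.castLE hrn)
    have hdiff : ∀ G, G - ρ (kill G) ∈ Y := by
      intro G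
      rw [← Ideal.Quotient.eq]
      have hh : Ideal.Quotient.mkₐ R Y = (Ideal.Quotient.mkₐ R Y).comp (ρ.comp kill) := by
        refine MvPolynomial.algHom_ext fun i => ?_
        by_cases hi : (i : ℕ) < r
        · simp [kill, ρ, hi]
        · have hm : (X i : MvPolynomial (Fin n) R) ∈ Y :=
            Ideal.subset_span ⟨⟨i, not_lt.1 hi⟩, rfl⟩
          simp [kill, hi, Ideal.Quotient.eq_zero_iff_mem.2 hm]
      exact DFunLike.congr_fun hh G
    let scale : MvPolynomial (Fin r) p.ResidueField →ₐ[p.ResidueField] MvPolynomial (Fin r) p.ResidueField :=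
      aeval fun i => w i • X i
    let unscale : MvPolynomial (Fin r) p.ResidueField →ₐ[p.ResidueField] MvPolynomial (Fin r) p.ResidueField :=
      aeval fun i => (w i)⁻¹ • X i
    have hus : ∀ G, unscale (scale G) = G := by
      have : unscale.comp scale = AlgHom.id _ _ := MvPolynomial.algHom_ext fun i => by
        simp [scale, unscale, map_smul, smul_smul, mul_inv_cancel₀ (hw i)]
      exact fun G => DFunLike.congr_fun this G
    have hfac : ∀ G, π G = scale (MvPolynomial.map (algebraMap R p.ResidueField) (kill G)) := by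
      have : π = (scale.restrictScalars R).comp
          ((aeval fun i => (X i : MvPolynomial (Fin r) p.ResidueField)).comp kill) := by
        refine MvPolynomial.algHom_ext fun i => ?_
        by_cases hi : (i : ℕ) < r
        · simp [π, kill, scale, hi]
        · simp [π, kill, hi]
      intro G
      rw [this]
      show scale (aeval (fun i => (X i : MvPolynomial (Fin r) p.ResidueField)) (kill G)) = _
      congr 1
      induction kill G using MvPolynomial.induction_on with
      | C c => simp [MvPolynomial.algebraMap_eq, IsScalarTower.algebraMap_apply R p.ResidueField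
          (MvPolynomial (Fin r) p.ResidueField)]
      | add a b ha hb => simp [ha, hb]
      | mul_X a i ha => simp [ha]
    have h0 : MvPolynomial.map (algebraMap R p.ResidueField) (kill F) = 0 := by
      have := congrArg unscale ((hfac F).symm.trans hF)
      rwa [hus, map_zero] at this
    have h1 : kill F ∈ p.map (C : R →+* MvPolynomial (Fin r) R) := by
      refine MvPolynomial.mem_map_C_iff.2 fun d => ?_
      have := congrArg (coeff d) h0
      rw [coeff_map, coeff_zero] at this
      exact Ideal.algebraMap_residueField_eq_zero.1 this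
    have h2 : ρ (kill F) ∈ p.map (algebraMap R (MvPolynomial (Fin n) R)) := by
      have hmem := Ideal.mem_map_of_mem (ρ : MvPolynomial (Fin r) R →+* MvPolynomial (Fin n) R) h1
      rw [Ideal.map_map] at hmem
      rwa [show (ρ : MvPolynomial (Fin r) R →+* MvPolynomial (Fin n) R).comp C =
        algebraMap R (MvPolynomial (Fin n) R) from ρ.comp_algebraMap] at hmem
    rw [show F = (F - ρ (kill F)) + ρ (kill F) from (sub_add_cancel _ _).symm]
    exact add_mem (Submodule.mem_sup_right (hdiff F)) (Submodule.mem_sup_left h2)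
  · rw [Ideal.mem_comap, RingHom.mem_ker, AlgHom.commutes,
      IsScalarTower.algebraMap_apply R p.ResidueField, Ideal.algebraMap_residueField_eq_zero.2 hc,
      map_zero]
  · rintro _ ⟨⟨i, hi⟩, rfl⟩
    simp [π, not_lt.2 hi]

/-- Near a point with fibre of dimension at most `n` and residue transcendence degree `r` there is a
quasi-finite map to affine `n`-space under which the point pulls back to `p + (X_r, …, X_{n-1})`. -/
theorem exists_prescribed {R A : Type u} [CommRing R] [CommRing A] [Algebra R A]
    [Algebra.FiniteType R A] (q : PrimeSpectrum A) (p : Ideal R) [p.IsPrime]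
    (hp : q.asIdeal.comap (algebraMap R A) = p) (n : ℕ)
    (hdim : ringKrullDim (p.Fiber A) ≤ (n : WithBot ℕ∞))
    {L : Type u} [Field L] [Algebra p.ResidueField L] (Θ : p.Fiber A →ₐ[p.ResidueField] L)
    (hΘ : (RingHom.ker Θ).comap
      (Algebra.TensorProduct.includeRight (R := R) (A := p.ResidueField) (B := A)).toRingHom = q.asIdeal)
    (hfrac : ∀ z : L, ∃ x y, z = Θ x / Θ y) :
    ∃ r : ℕ, Algebra.trdeg p.ResidueField L = r ∧ ∃ b : Fin n → A,
      (∃ s ∉ q.asIdeal, RingHom.QuasiFinite
        (((IsScalarTower.toAlgHom R A (Localization.Away s)).comp (aeval b)).toRingHom)) ∧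
      q.asIdeal.comap (aeval (R := R) b) = p.map (algebraMap R (MvPolynomial (Fin n) R)) ⊔
        Ideal.span (Set.range fun i : {i : Fin n // r ≤ (i : ℕ)} =>
          (X (i : Fin n) : MvPolynomial (Fin n) R)) := by
  classical
  let p₀ : PrimeSpectrum R := ⟨p, inferInstance⟩
  have hp₀ : PrimeSpectrum.comap (algebraMap R A) q = p₀ := PrimeSpectrum.ext hp
  let k := p.ResidueField
  let CC := p.Fiber A
  let Θ' : CC →ₐ[k] L := Θ
  haveI : Nontrivial CC := RingHom.domain_nontrivial Θ'.toRingHom
  obtain ⟨m, g, hg, hgfin⟩ := exists_finite_inj_algHom_of_fg k CC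
  have hm : m ≤ n := by
    have h : ringKrullDim CC = (m : WithBot ℕ∞) := by
      letI := g.toRingHom.toAlgebra
      haveI : Algebra.IsIntegral (MvPolynomial (Fin m) k) CC := ⟨fun x => hgfin.to_isIntegral x⟩
      rw [GrothLib.Dim.ringKrullDim_eq_of_isIntegral (R := MvPolynomial (Fin m) k) (S := CC) hg,
        MvPolynomial.ringKrullDim_of_isNoetherianRing, ringKrullDim_eq_zero_of_field]
      simp
    have := h.symm.trans_le hdim
    exact_mod_cast this
  haveI : (RingHom.ker Θ').IsPrime := RingHom.ker_isPrime Θ'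
  haveI : ((RingHom.ker Θ').comap g).IsPrime := Ideal.IsPrime.comap _
  obtain ⟨r, hr, φ', hφ', hcomap⟩ :=
    GrothLib.NoetherInt.exists_integral_comap_eq k m ((RingHom.ker Θ').comap g)
  let g' : MvPolynomial (Fin m) k →ₐ[k] CC := g.comp φ'
  have hg'fin : g'.Finite := by
    refine AlgHom.Finite.comp hgfin ?_
    show φ'.toRingHom.Finite
    refine RingHom.IsIntegral.to_finite hφ' ?_
    refine RingHom.FiniteType.of_comp_finiteType (f := algebraMap k (MvPolynomial (Fin m) k)) ?_
    rw [AlgHom.toRingHom_eq_coe, AlgHom.comp_algebraMap]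
    exact RingHom.finiteType_algebraMap.2 inferInstance
  choose s hs a hsa using fun j : Fin m => Ideal.Fiber.exists_smul_eq_one_tmul p (g' (X j))
  let b : Fin n → A := fun i => if h : (i : ℕ) < m then a ⟨i, h⟩ else 0
  let u : Fin n → k := fun i => if h : (i : ℕ) < m then (algebraMap R k (s ⟨i, h⟩))⁻¹ else 0
  have hne : ∀ j, algebraMap R k (s j) ≠ 0 := fun j h =>
    hs j (Ideal.algebraMap_residueField_eq_zero.mp h)
  have hfin : (aeval (R := k) fun i => ((1 : k) ⊗ₜ[R] b i : CC)).Finite := by
    refine finite_comp_of_field k CC hm g' hg'fin _ u fun j => ?_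
    have hj : ((Fin.castLE hm j : Fin n) : ℕ) < m := j.2
    simp only [b, u, dif_pos hj, Fin.val_castLE, Fin.eta]
    rw [← hsa j, ← algebraMap_smul k (s j) (g' (X j)), inv_smul_smul₀ (hne j)]
  let Φ : MvPolynomial (Fin m) k →ₐ[k] L := Θ'.comp g'
  have hΦker : RingHom.ker Φ =
      Ideal.span (Set.range fun i : {i : Fin m // r ≤ (i : ℕ)} =>
        (X (i : Fin m) : MvPolynomial (Fin m) k)) := by
    rw [← hcomap]
    rfl
  let ρ : MvPolynomial (Fin r) k →ₐ[k] MvPolynomial (Fin m) k := rename (Fin.castLE hr)
  let kill : MvPolynomial (Fin m) k →ₐ[k] MvPolynomial (Fin r) k :=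
    aeval fun i : Fin m => if h : (i : ℕ) < r then X ⟨i, h⟩ else 0
  let θ : MvPolynomial (Fin r) k →ₐ[k] L := Φ.comp ρ
  have hkillρ : ∀ G, kill (ρ G) = G := by
    have : kill.comp ρ = AlgHom.id _ _ := MvPolynomial.algHom_ext fun i => by simp [kill, ρ]
    exact fun G => DFunLike.congr_fun this G
  have hθinj : Function.Injective θ := by
    rw [injective_iff_map_eq_zero]
    intro G hG
    have h1 : ρ G ∈ RingHom.ker kill := by
      have hle : RingHom.ker Φ ≤ RingHom.ker kill := by
        rw [hΦker, Ideal.span_le]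
        rintro _ ⟨⟨i, hi⟩, rfl⟩
        simp [kill, not_lt.2 hi]
      exact hle hG
    rw [← hkillρ G]
    exact h1
  have hΦkill : Φ = θ.comp kill := by
    refine MvPolynomial.algHom_ext fun i => ?_
    by_cases hi : (i : ℕ) < r
    · simp [θ, kill, ρ, hi]
    · have : (X i : MvPolynomial (Fin m) k) ∈ RingHom.ker Φ := by
        rw [hΦker]; exact Ideal.subset_span ⟨⟨i, not_lt.1 hi⟩, rfl⟩
      rw [RingHom.mem_ker] at this
      simp [θ, kill, hi, this]
  -- transcendence degree
  have htr : Algebra.trdeg k L = r := by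
    have hind : AlgebraicIndependent k fun i : Fin r => θ (X i) := by
      rw [algebraicIndependent_iff_injective_aeval, show aeval (fun i : Fin r => θ (X i)) = θ from
        (MvPolynomial.aeval_unique θ).symm]
      exact hθinj
    have halg : Algebra.IsAlgebraic (Algebra.adjoin k (Set.range fun i : Fin r => θ (X i))) L := by
      set K₀ := Algebra.adjoin k (Set.range fun i : Fin r => θ (X i)) with hK₀
      have hK : ∀ G, θ G ∈ K₀ := fun G => by
        induction G using MvPolynomial.induction_on with
        | C c => rw [show θ (MvPolynomial.C c) = algebraMap k L c from θ.commutes c]; exact K₀.algebraMap_mem c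
        | add x y hx hy => rw [map_add]; exact add_mem hx hy
        | mul_X x i hx => rw [map_mul]; exact mul_mem hx (Algebra.subset_adjoin ⟨i, rfl⟩)
      let θ₀ : MvPolynomial (Fin r) k →ₐ[k] K₀ := θ.codRestrict K₀ hK
      have hint : ∀ x : CC, IsIntegral K₀ (Θ' x) := by
        intro x
        have h1 : RingHom.IsIntegralElem (Θ'.toRingHom.comp g'.toRingHom) (Θ' x) :=
          (hg'fin.to_isIntegral x).map Θ'.toRingHom
        have h2 : Θ'.toRingHom.comp g'.toRingHom =
            (algebraMap K₀ L).comp (θ₀.toRingHom.comp kill.toRingHom) :=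
          RingHom.ext fun G => DFunLike.congr_fun hΦkill G
        exact RingHom.IsIntegralElem.of_comp (h2 ▸ h1)
      refine ⟨fun z => ?_⟩
      obtain ⟨x, y, rfl⟩ := hfrac z
      rw [div_eq_mul_inv]
      exact (hint x).isAlgebraic.mul ((hint y).isAlgebraic.inv)
    have hb : IsTranscendenceBasis k fun i : Fin r => θ (X i) :=
      hind.isTranscendenceBasis_iff_isAlgebraic.2 halg
    have hc := hb.lift_cardinalMk_eq_trdeg
    simpa using hc.symm
  refine ⟨r, htr, b, exists_quasiFinite_of_fibre_finite A q p₀ hp₀ b hfin, ?_⟩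
  let w : Fin r → k := fun i => algebraMap R k (s (Fin.castLE hr i))
  rw [← ker_killVars p (hr.trans hm) w (fun i => hne _)]
  let π : MvPolynomial (Fin n) R →ₐ[R] MvPolynomial (Fin r) k := aeval fun i : Fin n =>
    if h : (i : ℕ) < r then w ⟨i, h⟩ • (X ⟨i, h⟩ : MvPolynomial (Fin r) k) else 0
  have hcomm : Θ'.toRingHom.comp ((Algebra.TensorProduct.includeRight (R := R) (A := k) (B := A)).comp
      (aeval (R := R) b)).toRingHom = θ.toRingHom.comp π.toRingHom := by
    refine MvPolynomial.ringHom_ext (fun c => ?_) (fun i => ?_)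
    · show Θ' ((1 : k) ⊗ₜ[R] (aeval b (MvPolynomial.C c))) = θ (π (MvPolynomial.C c))
      rw [aeval_C, aeval_C, IsScalarTower.algebraMap_apply R k (MvPolynomial (Fin r) k), θ.commutes,
        ← Θ'.commutes, Algebra.TensorProduct.algebraMap_apply,
        ← mul_one (algebraMap R A c), ← Algebra.smul_def, TensorProduct.tmul_smul,
        TensorProduct.smul_tmul', Algebra.smul_def, mul_one]
      rfl
    · show Θ' ((1 : k) ⊗ₜ[R] (aeval b (X i))) = θ (π (X i))
      rw [aeval_X, aeval_X]
      by_cases him : (i : ℕ) < m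
      · simp only [b, dif_pos him]
        rw [← hsa ⟨i, him⟩, ← algebraMap_smul k (s ⟨i, him⟩) (g' (X ⟨i, him⟩)), map_smul]
        show algebraMap R k (s ⟨i, him⟩) • Φ (X ⟨i, him⟩) = _
        rw [hΦkill]
        by_cases hir : (i : ℕ) < r
        · simp [kill, hir, w, map_smul]
          rw [← algebraMap_smul k (s ⟨i, him⟩) (X ⟨i, hir⟩ : MvPolynomial (Fin r) k), map_smul]
        · simp [kill, hir]
      · have hir : ¬ (i : ℕ) < r := fun h => him (lt_of_lt_of_le h hr)
        simp [b, him, hir]
  ext F
  rw [Ideal.mem_comap, RingHom.mem_ker]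
  show aeval b F ∈ q.asIdeal ↔ π F = 0
  rw [← hΘ, Ideal.mem_comap, RingHom.mem_ker]
  have e : Θ' ((1 : k) ⊗ₜ[R] (aeval b F)) = θ (π F) := RingHom.congr_fun hcomm F
  constructor
  · intro h
    exact hθinj ((e.symm.trans h).trans (map_zero θ).symm)
  · intro h
    exact e.trans (by rw [h, map_zero])

end GrothLib.FibreDimRing
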