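import Groth.Agent.Lib.FibreDimAt6.Ring
import Groth.Prelude.Def_Flat
import Mathlib.RingTheory.RingHom.QuasiFinite

/-! # Quasi-finite maps to affine space near a point -/

set_option autoImplicit false
universe u

open TensorProduct GrothLib.FibreDimAt6

set_option linter.style.haveILetI false

noncomputable section

namespace GrothLib.FibreDimRing

variable {R : Type u} [CommRing R]

/-- A map from affine space which is finite on the fibre of a point is quasi-finite near it. -/
theorem exists_quasiFinite_of_fibre_finite (A : Type u) [CommRing A] [Algebra R A] [Algebra.FiniteType R A]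
    (q : PrimeSpectrum A) (p : PrimeSpectrum R) (hp : PrimeSpectrum.comap (algebraMap R A) q = p)
    {n : ℕ} (b : Fin n → A)
    (hfin : (MvPolynomial.aeval (R := p.asIdeal.ResidueField)
      fun i => ((1 : p.asIdeal.ResidueField) ⊗ₜ[R] b i : p.asIdeal.Fiber A)).Finite) :
    ∃ r ∉ q.asIdeal, RingHom.QuasiFinite
      (((IsScalarTower.toAlgHom R A (Localization.Away r)).comp (MvPolynomial.aeval b)).toRingHom) := by
  subst hp
  classical
  let p₀ := PrimeSpectrum.comap (algebraMap R A) q
  let k := p₀.asIdeal.ResidueField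
  let C := p₀.asIdeal.Fiber A
  let P := MvPolynomial (Fin n) R
  let ψ : P →ₐ[R] A := MvPolynomial.aeval b
  letI := ψ.toRingHom.toAlgebra
  haveI : IsScalarTower R P A := IsScalarTower.of_algebraMap_eq fun c => (ψ.commutes c).symm
  haveI : Algebra.FiniteType P A := Algebra.FiniteType.of_restrictScalars_finiteType R P A
  let φ : p₀.asIdeal.Fiber P →ₐ[k] C := Algebra.TensorProduct.map (AlgHom.id k k) ψ
  have hφ : φ.Finite := by
    refine AlgHom.Finite.of_comp_finite (f := MvPolynomial.aeval (R := k)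
      fun i => ((1 : k) ⊗ₜ[R] (MvPolynomial.X i : P) : p₀.asIdeal.Fiber P)) ?_
    convert! hfin
    refine MvPolynomial.algHom_ext fun i => ?_
    rw [AlgHom.comp_apply, MvPolynomial.aeval_X, MvPolynomial.aeval_X]
    show (1 : k) ⊗ₜ[R] ψ (MvPolynomial.X i) = _
    rw [MvPolynomial.aeval_X]
  letI : Algebra (p₀.asIdeal.Fiber P) C := φ.toRingHom.toAlgebra
  haveI : Module.Finite (p₀.asIdeal.Fiber P) C := hφ
  haveI : Algebra.QuasiFinite (p₀.asIdeal.Fiber P) C := inferInstance
  let P₀ := PrimeSpectrum.comap (algebraMap P A) q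
  have hP₀ : P₀ ∈ PrimeSpectrum.comap (algebraMap R P) ⁻¹' {p₀} := by
    show PrimeSpectrum.comap _ (PrimeSpectrum.comap _ q) = p₀
    rw [← PrimeSpectrum.comap_comp_apply, ← IsScalarTower.algebraMap_eq]
  let Z := PrimeSpectrum.comap (algebraMap P A) ⁻¹' {P₀}
  have hmem : ∀ z : Z, z.1 ∈ PrimeSpectrum.comap (algebraMap R A) ⁻¹' {p₀} := fun z => by
    show PrimeSpectrum.comap _ z.1 = p₀
    rw [IsScalarTower.algebraMap_eq R P A, PrimeSpectrum.comap_comp_apply,
      show PrimeSpectrum.comap (algebraMap P A) z.1 = P₀ from z.2]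
    exact hP₀
  let eA := PrimeSpectrum.preimageOrderIsoFiber R A p₀
  let eP := PrimeSpectrum.preimageOrderIsoFiber R P p₀
  let w : Z → PrimeSpectrum C := fun z => eA ⟨z.1, hmem z⟩
  have hw : ∀ z, PrimeSpectrum.comap φ.toRingHom (w z) = eP ⟨P₀, hP₀⟩ := fun z => by
    apply eP.symm.injective
    refine Subtype.ext (PrimeSpectrum.ext ?_)
    rw [OrderIso.symm_apply_apply, fiberIso_symm_apply]
    show Ideal.comap _ (Ideal.comap φ.toRingHom (w z).asIdeal) = P₀.asIdeal
    rw [Ideal.comap_comap]
    refine Eq.trans ?_ (congrArg PrimeSpectrum.asIdeal (show PrimeSpectrum.comap (algebraMap P A) z.1 = P₀ from z.2))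
    show _ = Ideal.comap (algebraMap P A) z.1.asIdeal
    have h1 : z.1.asIdeal = (w z).asIdeal.comap
        (Algebra.TensorProduct.includeRight (R := R) (A := k) (B := A)).toRingHom := by
      rw [← fiberIso_symm_apply A p₀ (w z), OrderIso.symm_apply_apply]
    rw [h1, Ideal.comap_comap]
    congr 1
  have hwinj : Function.Injective w := fun z z' h => Subtype.ext (congrArg (fun v => v.1) (eA.injective h))
  haveI : Finite Z := by
    have hf := Algebra.QuasiFinite.finite_comap_preimage_singleton (S := C) (eP ⟨P₀, hP₀⟩)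
    exact @Finite.of_injective _ _ hf.to_subtype (fun z => ⟨w z, hw z⟩)
      fun z z' h => hwinj (congrArg Subtype.val h)
  haveI : T1Space Z := ⟨fun z => by
    rw [← closure_subset_iff_isClosed]
    intro z' hz'
    have hle : z.1 ⤳ z'.1 := (specializes_iff_mem_closure.mpr hz').map continuous_subtype_val
    have hle' : w z ≤ w z' := eA.monotone (show z.1 ≤ z'.1 from (PrimeSpectrum.le_iff_specializes _ _).mpr hle)
    exact (hwinj (PrimeSpectrum.ext (Algebra.QuasiFinite.eq_of_le_of_under_eq (R := p₀.asIdeal.Fiber P) _ _ hle'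
      (congrArg PrimeSpectrum.asIdeal ((hw z).trans (hw z').symm))))).symm⟩
  haveI : Algebra.QuasiFiniteAt P q.asIdeal :=
    Algebra.QuasiFiniteAt.of_isOpen_singleton_fiber q (isOpen_discrete _)
  obtain ⟨r, hr, hqf⟩ := exists_quasiFinite_away (R := P) A q.asIdeal
  refine ⟨r, hr, ?_⟩
  refine (RingHom.quasiFinite_algebraMap (R := P) (S := Localization.Away r)).2 hqf

/-- Near a point whose fibre has dimension at most `n` there is a quasi-finite map to affine `n`-space. -/
theorem exists_quasiFiniteAt_aeval (A : Type u) [CommRing A] [Algebra R A] [Algebra.FiniteType R A]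
    (q : PrimeSpectrum A) (n : ℕ)
    (hdim : ringKrullDim ((PrimeSpectrum.comap (algebraMap R A) q).asIdeal.Fiber A) ≤ (n : WithBot ℕ∞)) :
    ∃ φ : MvPolynomial (Fin n) R →ₐ[R] A, ∃ r ∉ q.asIdeal,
      RingHom.QuasiFinite (((IsScalarTower.toAlgHom R A (Localization.Away r)).comp φ).toRingHom) := by
  classical
  let p₀ := PrimeSpectrum.comap (algebraMap R A) q
  let k := p₀.asIdeal.ResidueField
  let C := p₀.asIdeal.Fiber A
  haveI : Nontrivial C := by
    have : PrimeSpectrum C := PrimeSpectrum.preimageOrderIsoFiber R A p₀ ⟨q, rfl⟩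
    exact ⟨⟨0, 1, fun h => this.2.ne_top ((Ideal.eq_top_iff_one _).mpr (h ▸ Submodule.zero_mem _))⟩⟩
  obtain ⟨m, g, hg, hgfin⟩ := exists_finite_inj_algHom_of_fg k C
  have hm : m ≤ n := by
    have h : ringKrullDim C = (m : WithBot ℕ∞) := by
      letI := g.toRingHom.toAlgebra
      haveI : Algebra.IsIntegral (MvPolynomial (Fin m) k) C := ⟨fun x => hgfin.to_isIntegral x⟩
      rw [GrothLib.Dim.ringKrullDim_eq_of_isIntegral (R := MvPolynomial (Fin m) k) (S := C) hg,
        MvPolynomial.ringKrullDim_of_isNoetherianRing, ringKrullDim_eq_zero_of_field]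
      simp
    have := h.symm.trans_le hdim
    exact_mod_cast this
  choose s hs a hsa using fun j : Fin m => Ideal.Fiber.exists_smul_eq_one_tmul p₀.asIdeal (g (MvPolynomial.X j))
  let b : Fin n → A := fun i => if h : (i : ℕ) < m then a ⟨i, h⟩ else 0
  let u : Fin n → k := fun i => if h : (i : ℕ) < m then (algebraMap R k (s ⟨i, h⟩))⁻¹ else 0
  let P := MvPolynomial (Fin n) R
  let ψ : P →ₐ[R] A := MvPolynomial.aeval b
  have hfin : (MvPolynomial.aeval (R := k) fun i => ((1 : k) ⊗ₜ[R] b i : C)).Finite := by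
    refine finite_comp_of_field k C hm g hgfin _ u fun j => ?_
    have hj : ((Fin.castLE hm j : Fin n) : ℕ) < m := j.2
    have hne : algebraMap R k (s j) ≠ 0 := fun h => hs j (Ideal.algebraMap_residueField_eq_zero.mp h)
    simp only [b, u, dif_pos hj, Fin.val_castLE, Fin.eta]
    rw [← hsa j, ← algebraMap_smul k (s j) (g (MvPolynomial.X j)), inv_smul_smul₀ hne]
  obtain ⟨r, hr, hqf⟩ := exists_quasiFinite_of_fibre_finite A q _ rfl b hfin
  exact ⟨ψ, r, hr, hqf⟩

/-- Near a point of local fibre dimension `n` there is a basic open with fibre dimension at most `n`. -/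
theorem exists_away_fiber_dim_le {S : Type u} [CommRing S] [Algebra R S] (p : PrimeSpectrum R)
    (Q : PrimeSpectrum (p.asIdeal.Fiber S)) (n : WithBot ℕ∞)
    (hdim : FlatMor.localDim (PrimeSpectrum (p.asIdeal.Fiber S)) Q ≤ n) :
    ∃ a : S, a ∉ Q.asIdeal.comap (Algebra.TensorProduct.includeRight.toRingHom) ∧
      ringKrullDim (p.asIdeal.Fiber (Localization.Away a)) ≤ n := by
  let C := p.asIdeal.Fiber S
  let ι := {U : TopologicalSpace.Opens (PrimeSpectrum C) // Q ∈ U}
  haveI : Nonempty ι := ⟨⟨⊤, trivial⟩⟩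
  obtain ⟨⟨U, hQU⟩, hU⟩ := ciInf_mem (fun U : ι => topologicalKrullDim (U.1 : Set (PrimeSpectrum C)))
  obtain ⟨_, ⟨c, rfl⟩, hc, hcU⟩ := PrimeSpectrum.isTopologicalBasis_basic_opens.exists_subset_of_mem_open hQU U.2
  obtain ⟨s, hs, a, hsa⟩ := Ideal.Fiber.exists_smul_eq_one_tmul p.asIdeal c
  have hbasic : PrimeSpectrum.basicOpen c =
      PrimeSpectrum.basicOpen (Algebra.TensorProduct.includeRight (R := R) (A := p.asIdeal.ResidueField) a : C) := by
    have hu : IsUnit (algebraMap R C s) := by
      rw [IsScalarTower.algebraMap_apply R p.asIdeal.ResidueField C]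
      exact (IsUnit.mk0 _ fun h => hs (Ideal.algebraMap_residueField_eq_zero.mp h)).map _
    rw [Algebra.TensorProduct.includeRight_apply, ← hsa, Algebra.smul_def, PrimeSpectrum.basicOpen_mul]
    rw [show PrimeSpectrum.basicOpen (algebraMap R C s) = ⊤ from top_le_iff.1 fun x _ hx =>
      x.isPrime.ne_top (Ideal.eq_top_of_isUnit_mem _ hx hu), top_inf_eq]
  have haQ : a ∉ Q.asIdeal.comap (Algebra.TensorProduct.includeRight.toRingHom) := by
    have h1 : Q ∈ PrimeSpectrum.basicOpen c := hc
    rw [hbasic] at h1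
    exact h1
  refine ⟨a, haQ, ?_⟩
  let T := Localization.Away a
  let eT := PrimeSpectrum.preimageHomeomorphFiber R T p
  let eS := PrimeSpectrum.preimageHomeomorphFiber R S p
  let m : (PrimeSpectrum.comap (algebraMap R T) ⁻¹' {p} : Set (PrimeSpectrum T)) →
      (PrimeSpectrum.comap (algebraMap R S) ⁻¹' {p} : Set (PrimeSpectrum S)) :=
    Set.MapsTo.restrict (PrimeSpectrum.comap (algebraMap S T)) _ _ fun z hz => by
      show PrimeSpectrum.comap _ (PrimeSpectrum.comap _ z) = p
      rw [← PrimeSpectrum.comap_comp_apply, ← IsScalarTower.algebraMap_eq]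
      exact hz
  have hm : Topology.IsInducing m := by
    refine Topology.IsInducing.of_comp (by fun_prop) continuous_subtype_val ?_
    exact ((PrimeSpectrum.localization_comap_isEmbedding T (Submonoid.powers a)).comp .subtypeVal).isInducing
  let g : PrimeSpectrum (p.asIdeal.Fiber T) → PrimeSpectrum C := fun x => eS (m (eT.symm x))
  have hg : Topology.IsInducing g := eS.isInducing.comp (hm.comp eT.symm.isInducing)
  have hgU : ∀ x, g x ∈ U := fun x => by
    refine hcU ?_
    show g x ∈ PrimeSpectrum.basicOpen c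
    rw [hbasic]
    intro hmem
    have h2 : (eS.symm (g x)).1 = PrimeSpectrum.comap (algebraMap S T) (eT.symm x).1 := by
      simp only [g, Homeomorph.symm_apply_apply]
      rfl
    have h3 : a ∈ (eS.symm (g x)).1.asIdeal := hmem
    rw [h2] at h3
    exact (eT.symm x).1.isPrime.ne_top
      (Ideal.eq_top_of_isUnit_mem _ h3 (IsLocalization.Away.algebraMap_isUnit a))
  rw [← PrimeSpectrum.topologicalKrullDim_eq_ringKrullDim]
  refine (((hg.codRestrict hgU).topologicalKrullDim_le).trans hU.le).trans hdim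

end GrothLib.FibreDimRing
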